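import Cfsg.Agent.TwoF.SpB.Core
import Cfsg.Agent.H859.Heis
import Cfsg.Agent.S0215

/-!
# TwoF SP-D: lower bounds for `dim [V, x]` that lift to all covers, two criteria for rows (helper55)

`EB p m s n`: every preimage `x` of `s` in a central extension with kernel of order dividing `m` has
`dim [U, x] ≥ n` on every faithful module over `ZMod p`.
-/

set_option autoImplicit false
set_option maxHeartbeats 400000
set_option linter.unusedSectionVars false

namespace Cfsg.Agent.TwoF.SpD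

open Cfsg Subgroup Module Cfsg.Agent.TwoF.Gen Cfsg.Agent.H859
open scoped commutatorElement

section Lift

variable {K S : Type*} [Group K] [Group S] {π : K →* S} {m r : ℕ}

theorem ker_pow (hm : Nat.card π.ker ∣ m) {c : K} (hc : π c = 1) : c ^ m = 1 :=
  orderOf_dvd_iff_pow_eq_one.1 ((π.ker.orderOf_dvd_natCard hc).trans hm)

theorem pow_eq_of_lift (hk : π.ker ≤ center K) {x y : K} (h : π x = π y) (n : ℕ) :
    x ^ n = (x * y⁻¹) ^ n * y ^ n := by
  have h1 : Commute (x * y⁻¹) y :=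
    (mem_center_iff.1 (hk (show π (x * y⁻¹) = 1 by rw [map_mul, map_inv, h, mul_inv_cancel])) y).symm
  rw [← h1.mul_pow, inv_mul_cancel_right]

theorem lift_unique (hk : π.ker ≤ center K) (hm : Nat.card π.ker ∣ m) (hr : r.Coprime m) {x y : K} (h : π x = π y)
    (hx : x ^ r = 1) (hy : y ^ r = 1) : x = y := by
  have h1 := pow_eq_of_lift hk h r
  rw [hx, hy, mul_one] at h1
  have h2 := ker_pow hm (show π (x * y⁻¹) = 1 by rw [map_mul, map_inv, h, mul_inv_cancel])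
  rw [← mul_inv_eq_one, ← orderOf_eq_one_iff]
  exact Nat.eq_one_of_dvd_coprimes hr (orderOf_dvd_of_pow_eq_one h1.symm) (orderOf_dvd_of_pow_eq_one h2)

theorem lift_mem (hm : Nat.card π.ker ∣ m) (hr : r.Coprime m) {x : K} (hx : π x ^ r = 1) :
    ∃ y ∈ zpowers x, π y = π x ∧ y ^ r = 1 := by
  obtain ⟨n, h1, h2⟩ := Nat.chineseRemainder hr 1 0
  obtain ⟨c, rfl⟩ := Nat.modEq_zero_iff_dvd.1 h2
  refine ⟨x ^ (m * c), pow_mem (mem_zpowers x) _, ?_, ?_⟩
  · rw [map_pow, pow_eq_pow_iff_modEq.2 (h1.of_dvd (orderOf_dvd_of_pow_eq_one hx)), pow_one]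
  · rw [← pow_mul, mul_comm, pow_mul, pow_mul, ker_pow hm (by rw [map_pow, hx]), one_pow]

theorem lift_exists (hs : Function.Surjective π) (hm : Nat.card π.ker ∣ m) (hr : r.Coprime m) {s : S}
    (h : s ^ r = 1) : ∃ y, π y = s ∧ y ^ r = 1 := by
  obtain ⟨x, rfl⟩ := hs s
  obtain ⟨y, -, h1⟩ := lift_mem hm hr h
  exact ⟨y, h1⟩

theorem lift_rel (hs : Function.Surjective π) (hk : π.ker ≤ center K) (hm : Nat.card π.ker ∣ m) (hr : r.Coprime m)
    {a b w : S} (h : Heis.Rel r a b w) {z : K} (hz : π z = w) (hzr : z ^ r = 1) : ∃ x y : K, Heis.Rel r x y z := by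
  obtain ⟨x, rfl, hx⟩ := lift_exists hs hm hr h.ap
  obtain ⟨y, rfl, hy⟩ := lift_exists hs hm hr h.bp
  subst hz
  have hc := hr.coprime_dvd_right hm
  have h1 := comm_of_coprime hk h.aw h.ap hc
  have h2 := comm_of_coprime hk h.bw h.bp hc
  refine ⟨x, y, hx, hy, hzr, h1, h2, ?_, fun e => h.w1 (by rw [e, map_one])⟩
  have h3 : x⁻¹ * y * x⁻¹⁻¹ = y * z := lift_unique hk hm hr
    (by simp only [map_mul, map_inv, inv_inv]; rw [mul_assoc, h.ba]; group) (by rw [conj_pow, hy]; group)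
    (by rw [(show Commute y z from h2).mul_pow, hy, hzr, one_mul])
  rw [mul_assoc, ← h3]
  group

theorem heis_comm {Y : Type*} [Group Y] {p : ℕ} [Fact p.Prime] {a b w : Y} (h : Heis.Rel p a b w) :
    ∀ x ∈ Heis.gp h, ∀ y ∈ Heis.gp h, ⁅x, y⁆ ∈ zpowers w := by
  rintro _ ⟨i, j, l, rfl⟩ _ ⟨i', j', l', rfl⟩
  have h1 : ∀ n, Commute (a ^ (i + i') * b ^ (j + j')) (w ^ n) := fun n =>
    ((show Commute a w from h.aw).pow_pow _ _).mul_left ((show Commute b w from h.bw).pow_pow _ _)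
  rw [commutatorElement_def, mul_assoc (_ * _), ← mul_inv_rev, h.mul, h.mul, add_comm i' i, add_comm j' j, (h1 _).eq,
    (h1 _).eq, mul_inv_rev, mul_assoc, mul_inv_cancel_left]
  exact mul_mem (pow_mem (mem_zpowers w) _) (inv_mem (pow_mem (mem_zpowers w) _))

end Lift

/-- a lower bound for `dim [U, x]`, for all preimages `x` of `s` -/
def EB (p : ℕ) [Fact p.Prime] (m : ℕ) {S : Type} [Group S] (s : S) (n : ℕ) : Prop :=
  ∀ (K : Type) [Group K] [Finite K] (π : K →* S), Function.Surjective π → π.ker ≤ center K → Nat.card π.ker ∣ m →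
    ∀ (U : Type) [AddCommGroup U] [Module (ZMod p) U] [Finite U] (σ : Representation (ZMod p) K U),
      Function.Injective σ → ∀ x, π x = s → n ≤ cod σ (zpowers x)

variable {p : ℕ} [hp : Fact p.Prime] {m n n' : ℕ} {S : Type} [Group S] {s t : S}

theorem EB.mono (h : EB p m s n) (hn : n' ≤ n) : EB p m s n' :=
  fun K _ _ π h1 h2 h3 U _ _ _ σ h4 x h5 => hn.trans (h K π h1 h2 h3 U σ h4 x h5)

theorem EB.conj (h : EB p m s n) (hc : IsConj t s) : EB p m t n := by
  intro K _ _ π h1 h2 h3 U _ _ _ σ h4 x h5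
  obtain ⟨g, rfl⟩ := isConj_iff.1 hc
  obtain ⟨g, rfl⟩ := h1 g
  rw [← cod_zpowers_conj g]
  exact h K π h1 h2 h3 U σ h4 _ (by rw [map_mul, map_mul, map_inv, h5])

theorem EB.of_pow {k : ℕ} (h : EB p m (s ^ k) n) : EB p m s n :=
  fun K _ _ π h1 h2 h3 U _ _ _ σ h4 x h5 => (h K π h1 h2 h3 U σ h4 (x ^ k) (by rw [map_pow, h5])).trans
    (cod_mono (zpowers_le.2 (pow_mem (mem_zpowers x) k)))

theorem EB.mul {a b : S} (h : EB p m (a * b) n) (ha : IsConj t a) (hb : IsConj t b) (hn : 2 * n' ≤ n + 1) :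
    EB p m t n' := by
  intro K _ _ π h1 h2 h3 U _ _ _ σ h4 x h5
  obtain ⟨g, rfl⟩ := isConj_iff.1 ha
  obtain ⟨g, rfl⟩ := h1 g
  obtain ⟨f, rfl⟩ := isConj_iff.1 hb
  obtain ⟨f, rfl⟩ := h1 f
  have h6 := (h K π h1 h2 h3 U σ h4 (g * x * g⁻¹ * (f * x * f⁻¹)) (by simp only [map_mul, map_inv, h5])).trans
    (cod_zpowers_mul_le _ _)
  rw [cod_zpowers_conj, cod_zpowers_conj] at h6
  omega

/-- an involution that inverts `z` -/
theorem EB.inv {z : S} {k : ℕ} (h : EB p m z n) (hk : (z ^ 2) ^ k = z) (ht : t * t = 1) (hz : t * z * t⁻¹ = z⁻¹)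
    (hn : 2 * n' ≤ n + 1) : EB p m t n' := by
  have h1 : z * t * z⁻¹ * t = z ^ 2 := by
    rw [← hz, pow_two]
    calc z * t * (t * z * t⁻¹) * t = z * (t * t) * z := by group
      _ = z * z := by rw [ht, mul_one]
  exact EB.mul (a := z * t * z⁻¹) (b := t) (h1 ▸ EB.of_pow (hk.symm ▸ h)) (isConj_iff.2 ⟨z, rfl⟩) (IsConj.refl t) hn

theorem eb_ord {r : ℕ} (hr : r.Prime) (hrp : r ≠ p) (hs : orderOf s = r)
    (hn : ∀ d < n, 0 < d → p ^ d % r ≠ 1 % r) : EB p m s n := by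
  intro K _ _ π _ _ _ U _ _ _ σ h4 x h5
  have := Fact.mk hr
  obtain ⟨y, hy⟩ := exists_prime_orderOf_dvd_card' (G := zpowers x) r
    (by rw [Nat.card_zpowers, ← hs, ← h5]; exact orderOf_map_dvd π x)
  rw [← orderOf_coe] at hy
  refine le_trans (le_cod_of_order h4 (s := r) (X := zpowers (y : K)) ?_ (fun d h1 h2 => ?_)
    (IsPGroup.of_card (n := 1) (by rw [Nat.card_zpowers, hy, pow_one]))
    (by rw [Ne, zpowers_eq_bot, ← orderOf_eq_one_iff, hy]; exact hr.ne_one)) (cod_mono (zpowers_le.2 y.2))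
  · rw [Nat.card_zmod]
    exact fun e => hrp ((Nat.prime_dvd_prime_iff_eq hr hp.out).1 e)
  · rw [Nat.card_zmod]
    exact hn d h2 h1

theorem cast_ne {r : ℕ} (hr : r.Prime) (hrp : r ≠ p) : (r : ZMod p) ≠ 0 := by
  rw [Ne, ZMod.natCast_eq_zero_iff]
  exact fun e => hrp ((Nat.prime_dvd_prime_iff_eq hp.out hr).1 e).symm

/-- a `q`-element that normalises a group of prime order -/
theorem EB.frob {r q e i : ℕ} [Fact q.Prime] (h : EB p m s n) (hr : r.Prime) (hrp : r ≠ p) (hrm : r.Coprime m)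
    (hs : orderOf s = r) (hm : m ∣ q ^ e) (ht : t ^ q = 1) (hi : t * s * t⁻¹ = s ^ i) (hne : t * s ≠ s * t)
    (hn : q * n' < (q - 1) * n + q) : EB p m t n' := by
  intro K _ _ π h1 h2 h3 U _ _ _ σ h4 a h5
  obtain ⟨x, rfl, hx⟩ := lift_exists h1 h3 hrm (hs ▸ pow_orderOf_eq_one s)
  have := Fact.mk hr
  have h6 : orderOf x = r := orderOf_eq_prime hx fun e => hr.ne_one (by rw [← hs, e, map_one, orderOf_one])
  have h7 : a * x * a⁻¹ = x ^ i := lift_unique h2 h3 hrm (by rw [map_mul, map_mul, map_inv, h5, hi, map_pow])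
    (by rw [conj_pow, hx]; group) (by rw [← pow_mul, mul_comm, pow_mul, hx, one_pow])
  have h8 : zpowers a ≤ normalizer (zpowers x : Set K) := zpowers_le.2 (mem_normalizer_fintype fun _ ⟨j, hj⟩ => by
    rw [← hj, ← conj_zpow, h7]
    exact zpow_mem (pow_mem (mem_zpowers _) i) j)
  have h9 : a ^ q ^ (e + 1) = 1 := by
    obtain ⟨c, hc⟩ := hm
    rw [pow_succ', pow_mul, hc, pow_mul, ker_pow h3 (by rw [map_pow, h5, ht]), one_pow]
  obtain ⟨j, -, hj⟩ := (Nat.dvd_prime_pow Fact.out).1 (orderOf_dvd_of_pow_eq_one h9)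
  have h10 := coprime_bound (ρ := σ) (R := zpowers x) (A := zpowers a) (p := q)
    (by rintro _ ⟨i, rfl⟩ _ ⟨j, rfl⟩; exact (Commute.zpow_zpow_self x i j).eq)
    (by rw [Nat.card_zpowers, h6]; exact cast_ne hr hrp) h8 (IsPGroup.of_card (by rw [Nat.card_zpowers, hj]))
  have h11 : ⁅zpowers x, zpowers a⁆ = zpowers x := by
    have h12 := commutator_le_of_le_normalizer h8
    have h13 := card_dvd_of_le h12
    rw [Nat.card_zpowers, h6] at h13
    rcases (Nat.dvd_prime hr).1 h13 with h14 | h14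
    · have h15 := commutator_mem_commutator (mem_zpowers x) (mem_zpowers a)
      rw [card_eq_one.1 h14, mem_bot, commutatorElement_eq_one_iff_mul_comm] at h15
      exact absurd (by rw [← h5, ← map_mul, ← h15, map_mul]) hne
    · exact eq_of_le_of_card_ge h12 (by rw [Nat.card_zpowers, h6, h14])
  rw [h11] at h10
  have h12 := Nat.mul_le_mul_left (q - 1) (h K π h1 h2 h3 U σ h4 x rfl)
  exact Nat.lt_succ_iff.1 (lt_of_mul_lt_mul_left (a := q) (by rw [Nat.mul_succ]; omega) (Nat.zero_le _))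

/-- the centre of `r ^ (1 + 2)` -/
theorem eb_heis {r : ℕ} (hr : r.Prime) (hrp : r ≠ p) (hrm : r.Coprime m) {a b : S} (h : Heis.Rel r a b s)
    (J : Finset (ZMod r)) (hJ : ∀ j ∈ J, ∃ (g : S) (i l : ℕ), g⁻¹ * s * g = s ^ i ∧ j = ((i * p ^ l : ℕ) : ZMod r)) :
    EB p m s (J.card * r) := by
  intro K _ _ π h1 h2 h3 U _ _ _ σ h4 x h5
  have := Fact.mk hr
  obtain ⟨z, h6, h7, h8⟩ := lift_mem h3 hrm (h5 ▸ h.wp)
  obtain ⟨a', b', H⟩ := lift_rel h1 h2 h3 hrm h (h7.trans h5) h8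
  refine le_trans (heis_J (ρ := σ) (Q := Heis.gp H) hr h8 (cast_ne hr hrp) (fun e => H.w1 (h4 (e.trans (map_one σ).symm)))
    (fun q hq => (Heis.w_comm H hq).symm) (heis_comm H) (zpowers z)
    (fun t ht h => by_contra fun h1 => h (Heis.center_le H ht fun x hx => by_contra fun h2 => h1 ⟨x, hx, h2⟩))
    (m := r) ?_ J fun j hj => ?_) (cod_mono (zpowers_le.2 h6))
  · have h9 := ((zpowers z).subgroupOf (Heis.gp H)).card_mul_index
    rw [Nat.card_congr (subgroupOfEquivOfLe (zpowers_le.2 (Heis.w_mem H))).toEquiv, Nat.card_zpowers,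
      Heis.orderOf_w H, Heis.card H, pow_succ'] at h9
    exact (Nat.eq_of_mul_eq_mul_left hr.pos h9).ge
  · obtain ⟨g, i, l, h9, rfl⟩ := hJ j hj
    obtain ⟨g, rfl⟩ := h1 g
    refine ⟨g, i, l, lift_unique h2 h3 hrm (by rw [map_mul, map_mul, map_inv, map_pow, h7, h5, h9]) ?_
      (by rw [← pow_mul, mul_comm, pow_mul, h8, one_pow]), by rw [ZMod.card]⟩
    have := @conj_pow K _ r g⁻¹ z
    rw [inv_inv] at this
    rw [this, h8]
    group

/-! ### rows -/

section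

variable {Y : Type} [Group Y] [Finite Y] {V : Type} [AddCommGroup V] [Module (ZMod p) V] [Finite V]
  {K : Subgroup Y} {ρ : Representation (ZMod p) Y V} {π : K →* S} {φ : Y →* MulAut S}

theorem EB.sit (h : EB p m s n) (H : Sit p K ρ π φ) (hm : HasCyclicSchurMultiplier S m) {x : K} (hx : π x = s) :
    n ≤ cod ρ (zpowers (x : Y)) := by
  have h1 := h K π H.surj H.ker_π.le (H.ker_π ▸ H.toFrm.card_center_dvd' H.toStp.perfect hm) V (ρ.comp K.subtype)
    (H.faithful.comp K.subtype_injective) x hx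
  rwa [cod_comp, MonoidHom.map_zpowers] at h1

omit [Finite V] in
theorem card_img (H : Sit p K ρ π φ) {A : Subgroup Y} (hA : IsPGroup p A) :
    Nat.card ((A.subgroupOf K).map π) * K.relIndex A = Nat.card A := by
  have h1 : π.ker ⊓ A.subgroupOf K = ⊥ := eq_bot_iff.2 fun x hx => by
    have h2 : (x : Y) ∈ A ⊓ centralizer (K : Set Y) := ⟨hx.2, H.toFrm.π_eq_one_iff.1 hx.1⟩
    rw [H.toStp.eq_bot_of_le_centralizer hA.to_inf_left inf_le_right] at h2
    exact Subtype.ext h2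
  rw [← relIndex_ker, ← inf_relIndex_right, h1, relIndex_bot_left, ← inf_subgroupOf_right,
    Nat.card_congr (subgroupOfEquivOfLe inf_le_right).toEquiv, ← Nat.card_congr (subgroupOfEquivOfLe inf_le_left).toEquiv,
    inf_subgroupOf_left, relIndex, card_mul_index]

omit [Finite Y] [Finite V] in
theorem elemAb_img {A : Subgroup Y} (hA : IsElementaryAbelian p A) :
    IsElementaryAbelian p ((A.subgroupOf K).map π) :=
  elemAb_map (elemAb_of (fun _ ha _ hb => Subtype.ext (elemAb_comm hA ha hb))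
    fun a ha => Subtype.ext (hA.2 a ha)) π

end

/-- `p` does not divide the order of the outer automorphism group -/
theorem row_odd (ho : ¬ p ∣ Nat.card (Out S)) (hm : HasCyclicSchurMultiplier S m)
    (h : ∀ E : Subgroup S, IsElementaryAbelian p E → ∀ j, small p < j → Nat.card E = p ^ j →
      ∃ t ∈ E, EB p m t (2 * j + 1)) : Row p S := by
  refine ⟨row88_of_sit fun Y _ _ V _ _ _ K ρ π φ H A hA => ⟨A, hA, by_contra fun hc => ?_⟩, row89_of_not_dvd ho⟩
  obtain ⟨j, -, h1, h2⟩ := hA.exists_card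
  have h3 := card_img H (elemAb_isPGroup hA.1)
  rw [relIndex_eq_one.2 (H.toFrm.le_of_not_dvd (elemAb_isPGroup hA.1) ho), mul_one, h1] at h3
  obtain ⟨_, ⟨x, h4, rfl⟩, h5⟩ := h _ (elemAb_img hA.1) j
    ((Nat.pow_dvd_pow_iff_le_right hp.out.one_lt).1 (h1 ▸ hA.pow_dvd_of_not_cub hc)) h3
  have h6 := (h5.sit H hm rfl).trans (cod_mono (zpowers_le.2 h4))
  omega

omit hp in
/-- characteristic two, outer automorphism group of order at most two -/
theorem noOff_two (ho : Nat.card (Out S) ∣ 2) (hm : HasCyclicSchurMultiplier S m) (he : 2 ∣ Nat.card S)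
    (h5 : ∀ t : S, orderOf t = 2 → EB 2 m t 5)
    (h : ∀ E : Subgroup S, IsElementaryAbelian 2 E → ∀ j, 0 < j → Nat.card E = 2 ^ j →
      ∃ t ∈ E, EB 2 m t (2 * j + 3)) : NoOff 2 S := by
  refine noOff_of_sit fun Y _ _ V _ _ _ K ρ π φ H A hA => ?_
  classical
  obtain ⟨r, h0, h1, h2⟩ := hA.exists_card
  have : Finite S := Finite.of_surjective π H.surj
  have h3 := card_img H (elemAb_isPGroup hA.1)
  obtain ⟨j, hj⟩ := (elemAb_isPGroup (elemAb_img (π := π) hA.1)).exists_card_eq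
  have h4 : r ≤ j + 1 := (Nat.pow_le_pow_iff_right one_lt_two).1 (by
    rw [← h1, ← h3, hj, pow_succ]
    exact Nat.mul_le_mul_left _ (Nat.le_of_dvd two_pos ((H.toFrm.relIndex_dvd A).trans ho)))
  rcases j.eq_zero_or_pos with rfl | h6
  swap
  · obtain ⟨_, ⟨x, h4, rfl⟩, h5⟩ := h _ (elemAb_img hA.1) j h6 hj
    have h6 := (h5.sit H hm rfl).trans (cod_mono (zpowers_le.2 h4))
    omega
  obtain ⟨⟨u, hu⟩, h6⟩ := ne_bot_iff_exists_ne_one.1 hA.2.1
  have h7 : u ≠ 1 := fun e => h6 (Subtype.ext e)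
  have h8 := hA.1.2 u hu
  have h9 : u ∉ K := fun e => h7 (H.toStp.eq_one_of_mem_centralizer (n := 1) h8 (H.toFrm.π_eq_one_iff (x := ⟨u, e⟩).1
    (mem_bot.1 (card_eq_one.1 hj ▸ mem_map_of_mem π (show (⟨u, e⟩ : K) ∈ A.subgroupOf K from hu)))))
  have := H.normal
  obtain ⟨P, hP⟩ := (elemAb_isPGroup hA.1).exists_le_sylow
  by_cases hi : ∀ g : Y, g * u * g⁻¹ ∈ P → g * u * g⁻¹ = u
  · obtain ⟨N, h10, h11, h12⟩ := S0215.result P u (orderOf_eq_prime h8 h7) (hP hu) hi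
    rcases H.toStp.normal_cases (N := N) (by rw [normalizer_eq_top]; exact le_top) with e | e
    · exact h11.not_two_dvd_nat ((he.mul_left _).trans (H.toFrm.card_K ▸ card_dvd_of_le e))
    · refine h9 (H.cent (H.toStp.le_centralizer_of_commutator (N := A) (commutator_le.2 fun a ha g _ => ?_) hu))
      have h13 : A = zpowers u := (eq_of_le_of_card_ge (zpowers_le.2 hu) (by
        rw [Nat.card_zpowers, orderOf_eq_prime h8 h7, h1, show r = 1 by omega, pow_one])).symm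
      rw [h13, mem_zpowers_iff_mem_range_orderOf, orderOf_eq_prime h8 h7] at ha
      obtain ⟨i, hi, rfl⟩ := Finset.mem_image.1 ha
      rcases (by have := Finset.mem_range.1 hi; omega : i = 0 ∨ i = 1) with rfl | rfl
      · rw [pow_zero, commutatorElement_one_left]; exact one_mem _
      · rw [pow_one]; exact e (h12 g)
  push Not at hi
  obtain ⟨g, h10, h11⟩ := hi
  have h12 : K.index = 2 := ((Nat.dvd_prime Nat.prime_two).1 (H.toFrm.index_dvd.trans ho)).resolve_left fun e =>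
    h9 (index_eq_one.1 e ▸ mem_top u)
  have h13 : g * u * g⁻¹ * u ∈ K := (mul_mem_iff_of_index_two h12).2
    (iff_of_false (fun e => h9 (by simpa [mul_assoc] using this.conj_mem' _ e g)) h9)
  obtain ⟨e, he⟩ := P.isPGroup' ⟨_, mul_mem h10 (hP hu)⟩
  obtain ⟨l, -, hl⟩ := (Nat.dvd_prime_pow Nat.prime_two).1
    (orderOf_dvd_of_pow_eq_one (show (g * u * g⁻¹ * u) ^ 2 ^ e = 1 from congrArg Subtype.val he))
  obtain ⟨⟨y, hy⟩, h14⟩ := exists_prime_orderOf_dvd_card' (G := zpowers (g * u * g⁻¹ * u)) 2 (by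
    rw [Nat.card_zpowers, hl]
    refine dvd_pow_self 2 fun e => h11 ?_
    rw [e, pow_zero, orderOf_eq_one_iff, mul_eq_one_iff_eq_inv] at hl
    rw [hl, inv_eq_iff_mul_eq_one, ← pow_two, h8])
  rw [← orderOf_coe] at h14
  have h15 : y ^ 2 = 1 := h14 ▸ pow_orderOf_eq_one y
  have h16 := (h5 (π ⟨y, zpowers_le.2 h13 hy⟩) (orderOf_eq_prime (by
    rw [← map_pow, show (⟨y, _⟩ : K) ^ 2 = 1 from Subtype.ext h15, map_one]) fun e => by
      have h17 : y = 1 := H.toStp.eq_one_of_mem_centralizer (n := 1) h15 (H.toFrm.π_eq_one_iff.1 e)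
      rw [show ((⟨y, hy⟩ : zpowers _) : Y) = 1 from h17, orderOf_one] at h14
      omega)).sit H hm rfl
  have h17 := (cod_mono (ρ := ρ) (zpowers_le.2 hy)).trans (cod_zpowers_mul_le _ _)
  have h18 := cod_mono (ρ := ρ) (zpowers_le.2 hu)
  rw [cod_zpowers_conj] at h17
  dsimp only at h16
  omega

/-! ### elementary abelian subgroups -/

variable [Finite S]

theorem le_of_card {E : Subgroup S} {j e : ℕ} (hj : Nat.card E = p ^ j) (he : ¬ p ^ (e + 1) ∣ Nat.card S) : j ≤ e :=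
  not_lt.1 fun h => he ((pow_dvd_pow p h).trans (hj ▸ card_subgroup_dvd_card E))

theorem exists_elt {E : Subgroup S} {j : ℕ} (h0 : 0 < j) (hj : Nat.card E = p ^ j) :
    ∃ t ∈ E, orderOf t = p := by
  obtain ⟨t, ht⟩ := exists_prime_orderOf_dvd_card' (G := E) p (hj ▸ dvd_pow_self p h0.ne')
  exact ⟨t, t.2, by rwa [orderOf_coe]⟩

/-- a subgroup whose order is the full power of `p` contains a conjugate of every `p`-element -/
theorem exists_conj {E : Subgroup S} {j e : ℕ} (hj : Nat.card E = p ^ j) (he : ¬ p ^ (j + 1) ∣ Nat.card S)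
    (hs : s ^ p ^ e = 1) : ∃ t ∈ E, IsConj t s := by
  obtain ⟨l, -, hl⟩ := (Nat.dvd_prime_pow hp.out).1 (orderOf_dvd_of_pow_eq_one hs)
  obtain ⟨Q, hQ⟩ := (IsPGroup.of_card (G := zpowers s) (by rw [Nat.card_zpowers, hl])).exists_le_sylow
  obtain ⟨g, hg⟩ := MulAction.exists_smul_eq S Q ((IsPGroup.of_card hj).toSylow (fun ⟨c, hc⟩ => he (by
    rw [← E.card_mul_index, hj, hc, pow_succ, ← mul_assoc]; exact dvd_mul_right _ _)))
  have h : _ ∈ ((g • Q : Sylow p S) : Subgroup S) := smul_mem_pointwise_smul s (MulAut.conj g) _ (hQ (mem_zpowers s))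
  rw [hg] at h
  exact ⟨_, h, (isConj_iff.2 ⟨g, rfl⟩).symm⟩

/-- the Sylow subgroups are `p ^ (1 + 2)` -/
theorem heis_mem {a b : S} (h : Heis.Rel p a b s) (he : ¬ p ^ 4 ∣ Nat.card S) {E : Subgroup S}
    (hE : IsElementaryAbelian p E) {j : ℕ} (h2 : 2 ≤ j) (hj : Nat.card E = p ^ j) : j = 2 ∧ ∃ t ∈ E, IsConj t s := by
  obtain ⟨Q, hQ⟩ := (elemAb_isPGroup hE).exists_le_sylow
  obtain ⟨g, hg⟩ := MulAction.exists_smul_eq S Q ((Heis.isPGroup h).toSylow (fun ⟨c, hc⟩ => he (by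
    rw [← (Heis.gp h).card_mul_index, Heis.card h, hc, ← mul_assoc, ← pow_succ]; exact dvd_mul_right _ _)))
  have h3 : E.map (MulAut.conj g).toMonoidHom ≤ Heis.gp h := by
    rintro _ ⟨x, hx, rfl⟩
    have h : _ ∈ ((g • Q : Sylow p S) : Subgroup S) := smul_mem_pointwise_smul x (MulAut.conj g) _ (hQ hx)
    rwa [hg] at h
  have h4 := elemAb_map hE (MulAut.conj g).toMonoidHom
  have h5 := (card_map_conj g E).trans hj
  generalize hF : E.map (MulAut.conj g).toMonoidHom = F at h3 h4 h5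
  have h6 : ∀ x ∈ F ⊔ zpowers s, ∀ y ∈ F ⊔ zpowers s, x * y = y * x := by
    have h6 : zpowers s ≤ centralizer (F : Set S) := zpowers_le.2 fun x hx => (Heis.w_comm h (h3 hx)).symm
    have h7 : F ⊔ zpowers s ≤ centralizer (F : Set S) := sup_le (fun x hx y hy => elemAb_comm h4 hy hx) h6
    have h8 : F ⊔ zpowers s ≤ centralizer (zpowers s : Set S) := sup_le (le_centralizer_iff.1 h6) (le_centralizer _)
    exact fun x hx y hy => sup_le (le_centralizer_iff.1 h7) (le_centralizer_iff.1 h8) hy x hx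
  have h7 : F ⊔ zpowers s ≤ Heis.gp h := sup_le h3 (zpowers_le.2 (Heis.w_mem h))
  obtain ⟨l, h8, hl⟩ := (Nat.dvd_prime_pow hp.out).1 (Heis.card h ▸ card_dvd_of_le h7)
  have h9 : l ≠ 3 := fun e => by
    have h9 := eq_of_le_of_card_ge h7 (by rw [hl, e, Heis.card h])
    exact Heis.not_comm h (h6 _ (h9 ▸ Heis.b_mem h) _ (h9 ▸ Heis.a_mem h))
  have h10 : j ≤ l := (Nat.pow_dvd_pow_iff_le_right hp.out.one_lt).1 (h5 ▸ hl ▸ card_dvd_of_le le_sup_left)
  have h11 : F = F ⊔ zpowers s := eq_of_le_of_card_ge le_sup_left (by rw [hl, h5, show l = j by omega])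
  have h12 : s ∈ F := h11 ▸ mem_sup_right (mem_zpowers s)
  rw [← hF] at h12
  obtain ⟨t, ht, rfl⟩ := h12
  exact ⟨by omega, t, ht, isConj_iff.2 ⟨g, rfl⟩⟩

/-- primes whose square does not divide the order -/
theorem row_sq (ho : ¬ p ∣ Nat.card (Out S)) (hm : HasCyclicSchurMultiplier S m) (h : ¬ p ^ 2 ∣ Nat.card S) :
    Row p S :=
  row_odd ho hm fun _ _ _ h1 h2 => absurd (le_of_card h2 h) (not_le.2 ((one_le_small p).trans_lt h1))

end Cfsg.Agent.TwoF.SpD
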