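import Cfsg.Agent.TwoF.SpO.Prod
import Cfsg.Agent.TAB.Sm2.Van

/-!
# TwoF SP-D: tables whose rows are sums over Galois orbits (helper29)

* `exists_prod` : products of conjugates, with a certificate that uses all the rows of the table;
* `count` : the numbers of the elements of two types in a subgroup.
-/

set_option autoImplicit false

namespace Cfsg.Agent.TwoF.SpD.Blk

open Cfsg Subgroup Cfsg.Agent.TAB.Eng Cfsg.Agent.TAB.Use Cfsg.Agent.TwoF.SpO

universe u

variable {G : Type u} [Group G] {D : Dat} {T : TD G D} {R : Rows} {χ : ℕ → G → ℂ}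

/-- the value of the characters of an orbit -/
def colV (t : ℕ) (r : List (ℕ × ℤ) × List ℤ) : ℤ := r.2.getD t 0 / r.1.length

/-- the relations are the sums over a partition -/
def part (R : Rows) : Bool := R.rel.flatMap Prod.fst == (List.range R.n).map fun j => (j, 1)

/-- the column `t` has the norm `c` -/
def colB (R : Rows) (t c : ℕ) : Bool :=
  (R.rel.all fun r => r.2.getD t 0 == r.1.length * colV t r) &&
    (R.rel.map fun r => r.1.length * (colV t r * colV t r)).sum == (c : ℤ)

theorem sum_nonneg_eq {α : Type*} (f : α → ℝ) (hf : ∀ a, 0 ≤ f a) :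
    ∀ l : List α, (l.map f).sum = 0 → ∀ a ∈ l, f a = 0
  | [], _, _, ha => absurd ha List.not_mem_nil
  | b :: l, h, a, ha => by
    rw [List.map_cons, List.sum_cons] at h
    have h1 := hf b
    have h2 : 0 ≤ (l.map f).sum := List.sum_nonneg fun x hx => by
      obtain ⟨y, -, rfl⟩ := List.mem_map.1 hx
      exact hf y
    rcases List.mem_cons.1 ha with rfl | ha
    · linarith
    · exact sum_nonneg_eq f hf l (by linarith) a ha

theorem sum_flat {α β : Type*} (g : β → ℝ) (f : α → List β) :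
    ∀ l : List α, (l.map fun a => ((f a).map g).sum).sum = ((l.flatMap f).map g).sum
  | [] => rfl
  | a :: l => by rw [List.map_cons, List.sum_cons, sum_flat g f l, List.flatMap_cons, List.map_append, List.sum_append]

theorem sum_range_list (f : ℕ → ℝ) (n : ℕ) : ((List.range n).map f).sum = ∑ i ∈ Finset.range n, f i := by
  induction n with
  | zero => rfl
  | succ n ih => rw [List.range_succ, List.map_append, List.sum_append, ih, Finset.sum_range_succ]; simp

theorem sum_sub_list {α : Type*} (f g : α → ℝ) :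
    ∀ l : List α, (l.map fun a => f a - g a).sum = (l.map f).sum - (l.map g).sum
  | [] => by simp
  | a :: l => by
    simp only [List.map_cons, List.sum_cons, sum_sub_list f g l]
    ring

theorem sum_normSq_sub (z : ℕ → ℂ) (v : ℝ) : ∀ l : List (ℕ × ℤ), (∀ p ∈ l, p.2 = 1) →
    (l.map fun p => Complex.normSq (z p.1 - v)).sum = (l.map fun p => Complex.normSq (z p.1)).sum -
      2 * v * ((l.map fun p => (p.2 : ℂ) * z p.1).sum).re + l.length * (v * v)
  | [], _ => by simp
  | p :: l, h => by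
    simp only [List.map_cons, List.sum_cons, List.length_cons]
    rw [sum_normSq_sub z v l fun q hq => h q (List.mem_cons_of_mem _ hq), h p List.mem_cons_self]
    simp [Complex.normSq_apply]
    ring

theorem mem_part (h : part R = true) {r : List (ℕ × ℤ) × List ℤ} (hr : r ∈ R.rel) {p : ℕ × ℤ} (hp : p ∈ r.1) :
    p.1 < R.n ∧ p.2 = 1 := by
  have h5 : p ∈ R.rel.flatMap Prod.fst := List.mem_flatMap.2 ⟨r, hr, hp⟩
  rw [beq_iff_eq.1 h] at h5
  obtain ⟨j, hj, rfl⟩ := List.mem_map.1 h5
  exact ⟨List.mem_range.1 hj, rfl⟩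

/-- **the values on a class** -/
theorem col [Finite G] (hE : Enum G R.n R.d χ) (hR : Rel T R χ) (h1 : part R = true) {x : G} {c : ℕ}
    (hx : Nat.card (centralizer ({x} : Set G)) = c) (hc : colB R (T.ty x) c = true) :
    ∀ r ∈ R.rel, nth r.2 (T.ty x) = r.1.length * colV (T.ty x) r ∧ ∀ p ∈ r.1, χ p.1 x = colV (T.ty x) r := by
  simp only [colB, Bool.and_eq_true, beq_iff_eq, List.all_eq_true] at hc
  obtain ⟨h2, h3⟩ := hc
  have h5 : (R.rel.map fun r => (r.1.map fun p => Complex.normSq (χ p.1 x)).sum).sum = c := by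
    rw [sum_flat (fun p : ℕ × ℤ => Complex.normSq (χ p.1 x)), beq_iff_eq.1 h1, List.map_map, sum_range_list, ← hx]
    exact TAB.Sm2.sum_enum hE x
  have h6 : (R.rel.map fun r => (r.1.map fun p => Complex.normSq (χ p.1 x - (colV (T.ty x) r : ℝ))).sum).sum = 0 := by
    have h7 : (R.rel.map fun r => (r.1.map fun p => Complex.normSq (χ p.1 x - (colV (T.ty x) r : ℝ))).sum) =
        R.rel.map fun r => (r.1.map fun p => Complex.normSq (χ p.1 x)).sum -
          ((r.1.length * (colV (T.ty x) r * colV (T.ty x) r) : ℤ) : ℝ) := List.map_congr_left fun r hr => by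
      rw [sum_normSq_sub (fun j => χ j x) _ _ (fun p hp => (mem_part h1 hr hp).2), hR r hr x, h2 r hr]
      simp
      ring
    have h8 : ((R.rel.map fun r => (r.1.length * (colV (T.ty x) r * colV (T.ty x) r) : ℤ)).sum : ℝ) = c := by
      rw [h3, Int.cast_natCast]
    rw [Int.cast_list_sum, List.map_map] at h8
    rw [h7, sum_sub_list, h5]
    exact sub_eq_zero.2 h8.symm
  intro r hr
  refine ⟨(nth_eq _ _).trans (h2 r hr), fun p hp => ?_⟩
  have h8 := sum_nonneg_eq _ (fun r : List (ℕ × ℤ) × List ℤ => List.sum_nonneg fun y hy => by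
    obtain ⟨p, -, rfl⟩ := List.mem_map.1 hy
    exact Complex.normSq_nonneg _) _ h6 r hr
  have h9 := sum_nonneg_eq _ (fun p : ℕ × ℤ => Complex.normSq_nonneg _) _ h8 _ hp
  rw [Complex.normSq_eq_zero, sub_eq_zero] at h9
  simpa using h9

/-- the formula of Burnside for the row `w` -/
def BRow [Fintype G] (T : TD G D) (x y : G) (w : List ℤ) : Prop :=
  ∑ a, nth w 0 * nth w (T.ty (a * x * a⁻¹ * y)) = Nat.card G * (nth w (T.ty x) * nth w (T.ty y))

theorem brow [Fintype G] (h : Tab T R) (h0 : T.ty 1 = 0) (h1 : part R = true) (hN : colB R 0 (Nat.card G) = true)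
    {x y : G} (hx : colB R (T.ty x) (Nat.card (centralizer ({x} : Set G))) = true)
    (hy : colB R (T.ty y) (Nat.card (centralizer ({y} : Set G))) = true) : ∀ w ∈ R.rel.map Prod.snd, BRow T x y w := by
  obtain ⟨χ, hE, hR⟩ := h
  intro w hw
  obtain ⟨r, hr, rfl⟩ := List.mem_map.1 hw
  obtain ⟨a1, a2⟩ := col hE hR h1 (x := 1) (c := Nat.card G)
    (by rw [centralizer_eq_top_iff_subset.2 (Set.singleton_subset_iff.2 (one_mem _)), card_top]) (h0 ▸ hN) r hr
  obtain ⟨b1, b2⟩ := col hE hR h1 rfl hx r hr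
  obtain ⟨c1, c2⟩ := col hE hR h1 rfl hy r hr
  rw [h0] at a1 a2
  have h2 : ∀ l : List (ℕ × ℤ), (∀ p ∈ l, p ∈ r.1) →
      ∑ a, (colV 0 r : ℂ) * (l.map fun p => (p.2 : ℂ) * χ p.1 (a * x * a⁻¹ * y)).sum =
        l.length * (Nat.card G * (colV (T.ty x) r * colV (T.ty y) r)) := fun l hl => by
    induction l with
    | nil => simp
    | cons p l ih =>
      have h3 := hl p List.mem_cons_self
      obtain ⟨h4, h5⟩ := mem_part h1 hr h3
      have h6 := Characters.Central.sum_char_conj_mul (hE.irr _ h4) x y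
      rw [eq_div_iff (Characters.Central.irr_one_ne_zero (hE.irr _ h4)), a2 p h3, b2 p h3, c2 p h3] at h6
      simp only [List.map_cons, List.sum_cons, mul_add, Finset.sum_add_distrib, h5, Int.cast_one, one_mul,
        ih fun q hq => hl q (List.mem_cons_of_mem _ hq), List.length_cons, Nat.cast_succ]
      rw [← Finset.mul_sum]
      linear_combination h6
  have h3 := h2 r.1 fun _ hp => hp
  simp only [hR r hr, ← nth_eq] at h3
  have h4 : ∑ a, colV 0 r * nth r.2 (T.ty (a * x * a⁻¹ * y)) =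
      r.1.length * (Nat.card G * (colV (T.ty x) r * colV (T.ty y) r)) := by exact_mod_cast h3
  rw [BRow, a1, b1, c1]
  simp only [mul_assoc (r.1.length : ℤ)]
  rw [← Finset.mul_sum, h4]
  ring

theorem sum_accP [Fintype G] (x y : G) (z : List ℤ) : ∀ (W : List (List ℤ)) (V : List ℤ),
    (∀ w ∈ W, BRow T x y w) → V.length = D.n → ∑ a, nth (accP z W V) (T.ty (a * x * a⁻¹ * y)) =
      ∑ a, nth V (T.ty (a * x * a⁻¹ * y)) + Nat.card G * sumP (T.ty x) (T.ty y) z W := by
  induction z with
  | nil => exact fun W V _ _ => (add_zero _).symm.trans (congrArg _ (mul_zero _).symm)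
  | cons c z ih =>
    intro W V hW hV
    cases W with
    | nil => exact (add_zero _).symm.trans (congrArg _ (mul_zero _).symm)
    | cons w W =>
      have e1 : accP (c :: z) (w :: W) V = accP z W (axz (c * nth w 0) V w) :=
        (frcZ_eq (c * nth w 0) fun p => frcLZ (axz p V w) fun V' => accP z W V').trans (frcLZ_eq _ _)
      have e2 : sumP (T.ty x) (T.ty y) (c :: z) (w :: W) =
          c * (nth w (T.ty x) * nth w (T.ty y)) + sumP (T.ty x) (T.ty y) z W := frcZ_eq _ _
      rw [e1, e2, ih W _ (fun v hv => hW v (List.mem_cons_of_mem _ hv)) ((length_axz _ _ _).trans hV),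
        Finset.sum_congr rfl fun a _ => nth_axz _ _ _ (hV ▸ T.lt _), Finset.sum_add_distrib]
      simp only [mul_assoc c]
      rw [← Finset.mul_sum, hW w List.mem_cons_self]
      ring

/-- the check of a certificate -/
noncomputable def okB (D : Dat) (R : Rows) (good : ℕ → Bool) (s c t d : ℕ) (z : List ℤ) : Bool :=
  part R && colB R 0 D.N && colB R s c && colB R t d && okProd D (R.rel.map Prod.snd) good s t z

/-- **products of conjugates** -/
theorem exists_prod [Finite G] (h : Tab T R) (hN : Nat.card G = D.N) (h0 : T.ty 1 = 0) {good : ℕ → Bool}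
    {s c t d : ℕ} {z : List ℤ} (hz : okB D R good s c t d z = true) {x y : G} (hx : T.ty x = s) (hy : T.ty y = t)
    (hc : Nat.card (centralizer ({x} : Set G)) = c) (hd : Nat.card (centralizer ({y} : Set G)) = d) :
    ∃ a, good (T.ty (a * x * a⁻¹ * y)) = true := by
  have := Fintype.ofFinite G
  subst hx hy hc hd
  simp only [okB, Bool.and_eq_true] at hz
  obtain ⟨⟨⟨⟨h1, h2⟩, h3⟩, h4⟩, h5⟩ := hz
  have hW := brow h h0 h1 (hN ▸ h2) h3 h4
  rw [okProd, frcLZ_eq, Bool.and_eq_true, decide_eq_true_eq] at h5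
  by_contra h6
  have h7 := sum_accP x y z _ _ hW (List.length_replicate (a := 0))
  have h8 : ∑ a, nth (accP z (R.rel.map Prod.snd) (List.replicate D.n 0)) (T.ty (a * x * a⁻¹ * y)) ≤ 0 :=
    Finset.sum_nonpos fun a _ => by
      have h5 := allL_spec h5.1 _ (List.mem_range.2 (T.lt (a * x * a⁻¹ * y)))
      rw [Bool.or_eq_true, decide_eq_true_eq] at h5
      exact h5.resolve_left fun h7 => h6 ⟨a, h7⟩
  have h9 : ∑ a, nth (List.replicate D.n 0) (T.ty (a * x * a⁻¹ * y)) = 0 :=
    Finset.sum_eq_zero fun a _ => by rw [nth_eq, List.getD_replicate _ (T.lt _)]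
  have h10 : (0 : ℤ) < Nat.card G := by exact_mod_cast Nat.card_pos
  have h11 := mul_pos h10 h5.2
  omega

/-! ### counting in a subgroup -/

/-- the row is a character: its sum over a subgroup is a multiple of the order -/
def ChRow (T : TD G D) (w : List ℤ) : Prop :=
  ∀ (E : Subgroup G) [Fintype E], ∃ m : ℕ, ∑ e : E, nth w (T.ty e) = Nat.card E * m

theorem sum_char [Finite G] {ψ : G → ℂ} (h : IsCharacter G ψ) (S : Subgroup G) [Fintype S] :
    ∃ m : ℕ, ∑ s : S, ψ s = Nat.card S * m := by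
  obtain ⟨n, ρ, h1⟩ := Characters.Core.isCharacter_comp S.subtype h
  have h0 : (Nat.card S : ℂ) ≠ 0 := Nat.cast_ne_zero.2 Nat.card_pos.ne'
  have := invertibleOfNonzero h0
  have h2 := ρ.card_inv_mul_sum_char_eq_finrank
  rw [h1, inv_mul_eq_iff_eq_mul₀ h0] at h2
  exact ⟨Module.finrank ℂ ρ.invariants, h2⟩

theorem chRow [Finite G] (h : Tab T R) {r : List (ℕ × ℤ) × List ℤ} (hr : r ∈ R.rel)
    (hc : ∀ p ∈ r.1, p.1 < R.n ∧ p.2 = 1) : ChRow T r.2 := by
  obtain ⟨χ, hE, hR⟩ := h
  intro S _
  have h1 : ∀ c : List (ℕ × ℤ), (∀ p ∈ c, p.1 < R.n ∧ p.2 = 1) →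
      ∃ m : ℕ, ∑ s : S, (c.map fun p => (p.2 : ℂ) * χ p.1 s).sum = Nat.card S * m := by
    intro c hc
    induction c with
    | nil => exact ⟨0, by simp⟩
    | cons p c ih =>
      obtain ⟨m, hm⟩ := ih fun q hq => hc q (List.mem_cons_of_mem _ hq)
      obtain ⟨h2, h3⟩ := hc p List.mem_cons_self
      obtain ⟨k, hk⟩ := sum_char (Characters.Core.isIrr_isCharacter (hE.irr _ h2)) S
      refine ⟨k + m, ?_⟩
      simp only [List.map_cons, List.sum_cons, Finset.sum_add_distrib, hm, hk, h3, Int.cast_one, one_mul]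
      push_cast
      ring
  obtain ⟨m, hm⟩ := h1 r.1 hc
  simp only [hR r hr, ← nth_eq] at hm
  exact ⟨m, by exact_mod_cast hm⟩

theorem chRow_part [Finite G] (h : Tab T R) (h1 : part R = true) : ∀ w ∈ R.rel.map Prod.snd, ChRow T w := by
  intro w hw
  obtain ⟨r, hr, rfl⟩ := List.mem_map.1 hw
  exact chRow h hr fun p hp => mem_part h1 hr hp

/-- **the elements of a subgroup have two types** -/
theorem count [Finite G] (h0 : T.ty 1 = 0) (E : Subgroup G) {u v : ℕ} (hE : ∀ e ∈ E, e ≠ 1 → T.ty e = u ∨ T.ty e = v) :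
    ∃ a b : ℕ, 1 + a + b = Nat.card E ∧ ((∀ e ∈ E, T.ty e ≠ u) → a = 0) ∧
      ∀ w, ChRow T w → ∃ m : ℕ, nth w 0 + a * nth w u + b * nth w v = Nat.card E * m := by
  classical
  have := Fintype.ofFinite E
  let s : Finset E := Finset.univ.erase 1
  have key : ∀ f : ℕ → ℤ, ∑ e : E, f (T.ty e) = f 0 + (s.filter fun e : E => T.ty e = u).card * f u +
      (s.filter fun e : E => ¬ T.ty e = u).card * f v := fun f => by
    rw [← Finset.add_sum_erase _ _ (Finset.mem_univ (1 : E)), OneMemClass.coe_one, h0, add_assoc,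
      ← Finset.sum_filter_add_sum_filter_not _ fun e : E => T.ty e = u,
      Finset.sum_congr rfl (g := fun _ => f u) fun e he => by rw [(Finset.mem_filter.1 he).2],
      Finset.sum_congr (s₁ := Finset.filter (fun e : E => ¬ T.ty e = u) _) rfl (g := fun _ => f v) fun e he => by
        obtain ⟨h1, h2⟩ := Finset.mem_filter.1 he
        rw [(hE e e.2 fun h3 => (Finset.mem_erase.1 h1).1 (Subtype.ext h3)).resolve_left h2],
      Finset.sum_const, Finset.sum_const, nsmul_eq_mul, nsmul_eq_mul]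
  refine ⟨(s.filter fun e : E => T.ty e = u).card, (s.filter fun e : E => ¬ T.ty e = u).card, ?_, fun h => ?_,
    fun w hw => ?_⟩
  · have h1 := key fun _ => 1
    rw [Finset.sum_const, Finset.card_univ, ← Nat.card_eq_fintype_card] at h1
    simp only [nsmul_eq_mul, mul_one] at h1
    exact_mod_cast h1.symm
  · exact Finset.card_eq_zero.2 (Finset.filter_eq_empty_iff.2 fun e _ => h e e.2)
  · obtain ⟨m, hm⟩ := hw E
    exact ⟨m, (key (nth w)).symm.trans hm⟩

end Cfsg.Agent.TwoF.SpD.Blk
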