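import Cfsg.Agent.TwoF.SpD.Tool
import Cfsg.Agent.TwoF.SpO.Prod
import Cfsg.Agent.TAB.ON.Op

/-!
# TwoF SP-D: more lower bounds, for groups with a character table (helper55)
-/

set_option autoImplicit false
set_option maxHeartbeats 400000
set_option linter.unusedSectionVars false

namespace Cfsg.Agent.TwoF.SpD

open Cfsg Subgroup Module Cfsg.Agent.TwoF.Gen Cfsg.Agent.TAB.Eng Cfsg.Agent.TwoF.SpO

section

variable {k : Type*} [Field k] {Y : Type*} [Group Y] [Finite Y] {V : Type*} [AddCommGroup V] [Module k V]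
  [FiniteDimensional k V] {ρ : Representation k Y V}

/-- a real element of odd order -/
theorem even_cod {x g : Y} (ho : Odd (orderOf x)) (hk : (orderOf x : k) ≠ 0) (h : g * x * g⁻¹ = x⁻¹) :
    Even (cod ρ (zpowers x)) := by
  classical
  have hR : (Nat.card (zpowers x) : AlgebraicClosure k) ≠ 0 := card_ne_zero_closure (by rwa [Nat.card_zpowers])
  have := finite_char (AlgebraicClosure k) (zpowers x)
  have := Fintype.ofFinite (zpowers x →* (AlgebraicClosure k)ˣ)
  have hg : g⁻¹ ∈ normalizer (zpowers x : Set Y) := inv_mem (mem_normalizer_fintype fun _ ⟨j, hj⟩ => by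
    rw [← hj, ← conj_zpow, h]
    exact zpow_mem (inv_mem (mem_zpowers _)) j)
  have h1 : ∀ χ : zpowers x →* (AlgebraicClosure k)ˣ, tw g⁻¹ hg χ = χ⁻¹ := fun χ => char_zpowers_ext (by
    rw [tw_apply_of_eq hg χ (s := ⟨x, mem_zpowers x⟩⁻¹) (by rw [inv_inv]; exact h.symm), map_inv, MonoidHom.inv_apply])
  rw [← cod_bc (AlgebraicClosure k), cod_eq_sum_mlt
    (by rintro _ ⟨i, rfl⟩ _ ⟨j, rfl⟩; exact (Commute.zpow_zpow_self x i j).eq) hR le_rfl, ← ZMod.natCast_eq_zero_iff_even,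
    Nat.cast_sum]
  refine Finset.sum_involution (fun χ _ => χ⁻¹) (fun χ _ => ?_) (fun χ hχ _ e => ?_) (fun χ hχ => ?_)
    fun χ _ => inv_inv χ
  · rw [← h1, mlt_tw, CharTwo.add_self_eq_zero]
  · refine (Finset.mem_filter.1 hχ).2 fun r _ => ?_
    have h2 : χ r ^ 2 = 1 := by
      rw [pow_two, mul_eq_one_iff_eq_inv]
      exact (DFunLike.congr_fun e r).symm
    have h3 : χ r ^ orderOf x = 1 := by rw [← map_pow, ← Nat.card_zpowers, pow_card_eq_one', map_one]
    rw [← orderOf_eq_one_iff]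
    exact Nat.eq_one_of_dvd_coprimes ho.coprime_two_left (orderOf_dvd_of_pow_eq_one h2) (orderOf_dvd_of_pow_eq_one h3)
  · refine Finset.mem_filter.2 ⟨Finset.mem_univ _, fun e => (Finset.mem_filter.1 hχ).2 fun r hr => ?_⟩
    exact inv_eq_one.1 (e r hr)

/-- an elementary abelian group of order `r ^ 2` whose non-trivial elements have the same codimension -/
theorem dvd_cod {r c : ℕ} (hr : r.Prime) (hk : (r : k) ≠ 0) {R : Subgroup Y} (h1 : Nat.card R = r ^ 2)
    (h2 : ∀ a ∈ R, a ^ r = 1) (h3 : ∀ a ∈ R, a ≠ 1 → cod ρ (zpowers a) = c) : r ∣ c := by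
  classical
  have := Fact.mk hr
  have := Fintype.ofFinite R
  have h4 := IsPGroup.isMulCommutative_of_card_eq_prime_sq h1
  have h5 := sum_cod_elt (ρ := ρ) (R := R) (fun a ha b hb => congrArg Subtype.val (h4.1.1 ⟨a, ha⟩ ⟨b, hb⟩)) hr hk h2
  rw [← Finset.add_sum_erase _ _ (Finset.mem_univ 1), Finset.sum_congr rfl (g := fun _ => c) fun (g : R) hg =>
    h3 g g.2 fun e => Finset.ne_of_mem_erase hg (Subtype.ext e), Finset.sum_const,
    Finset.card_erase_of_mem (Finset.mem_univ _), smul_eq_mul, Finset.card_univ, ← Nat.card_eq_fintype_card, h1,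
    OneMemClass.coe_one, zpowers_one_eq_bot, cod_bot, zero_add, pow_two, mul_comm (r - 1), mul_assoc, mul_assoc] at h5
  refine Nat.Coprime.dvd_of_dvd_mul_left ?_ ⟨_, Nat.eq_of_mul_eq_mul_left hr.pos h5⟩
  refine (hr.coprime_iff_not_dvd).2 fun e => hr.not_dvd_one ((Nat.dvd_add_right e).1 ?_)
  rw [Nat.sub_add_cancel (Nat.mul_pos hr.pos hr.pos)]
  exact dvd_mul_right r r

end

variable {p : ℕ} [hp : Fact p.Prime] {m n n' : ℕ} {S : Type} [Group S] {s t : S}

theorem eb_of_one (h : ∀ (U : Type) [AddCommGroup U] [Module (ZMod p) U] [Finite U] (σ : Representation (ZMod p) S U),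
    Function.Injective σ → n ≤ cod σ (zpowers s)) : EB p 1 s n := by
  intro K _ _ π h1 _ h3 U _ _ _ σ h4 x h5
  let e := MulEquiv.ofBijective π ⟨(MonoidHom.ker_eq_bot_iff π).1 (card_eq_one.1 (Nat.dvd_one.1 h3)), h1⟩
  have h6 := h U (σ.comp e.symm.toMonoidHom) (h4.comp e.symm.injective)
  rwa [cod_comp, MonoidHom.map_zpowers, ← h5, show e.symm.toMonoidHom (π x) = x from e.symm_apply_apply x] at h6

variable [Finite S]

/-- a power of a product of two conjugates -/
theorem EB.prod {a : S} {l : ℕ} (h : EB p m ((a * t * a⁻¹ * t) ^ l) n) (hn : 2 * n' ≤ n + 1) : EB p m t n' :=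
  h.of_pow.mul (isConj_iff.2 ⟨a, rfl⟩) (IsConj.refl t) hn

theorem eb_of_dvd {a : S} {r : ℕ} (hr : r ∣ orderOf (a * t * a⁻¹ * t)) (h : ∀ y : S, orderOf y = r → EB p m y n)
    (hn : 2 * n' ≤ n + 1) : EB p m t n' :=
  (h _ (orderOf_pow_orderOf_div (orderOf_pos _).ne' hr)).prod hn

theorem EB.exists_frob {r q e : ℕ} [Fact q.Prime] (h : EB p m s n) (hr : r.Prime) (hrp : r ≠ p) (hrm : r.Coprime m)
    (hs : orderOf s = r) (hm : m ∣ q ^ e) (h1 : q ∣ Nat.card (normalizer (zpowers s : Set S)))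
    (h2 : ¬ q ∣ Nat.card (centralizer ({s} : Set S))) (hn : q * n' < (q - 1) * n + q) :
    ∃ t : S, orderOf t = q ∧ EB p m t n' := by
  obtain ⟨b, hb⟩ := exists_prime_orderOf_dvd_card' q h1
  rw [← orderOf_coe] at hb
  obtain ⟨i, hi⟩ := mem_powers_iff_mem_zpowers.2 ((mem_normalizer_iff.1 b.2 _).1 (mem_zpowers _))
  exact ⟨b, hb, h.frob hr hrp hrm hs hm (hb ▸ pow_orderOf_eq_one _) hi.symm
    (fun e => h2 (hb ▸ (centralizer {s}).orderOf_dvd_natCard (mem_centralizer_singleton_iff.2 e))) hn⟩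

variable {D : Dat} {T : TD S D}

theorem EB.ty (h : EB p m s n) (hr : TAB.ON.Rat T) (e : T.ty t = T.ty s) : EB p m t n := by
  obtain ⟨l, hl⟩ := hr t s e
  exact (h.conj hl).of_pow

theorem cod_ty {k : Type*} [Field k] {V : Type*} [AddCommGroup V] [Module k V] [FiniteDimensional k V]
    {ρ : Representation k S V} (hr : TAB.ON.Rat T) (e : T.ty t = T.ty s) : cod ρ (zpowers t) = cod ρ (zpowers s) := by
  have key : ∀ {t s : S}, T.ty t = T.ty s → cod ρ (zpowers s) ≤ cod ρ (zpowers t) := fun {t s} e => by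
    obtain ⟨l, hl⟩ := hr t s e
    obtain ⟨g, rfl⟩ := isConj_iff.1 hl
    rw [cod_zpowers_conj]
    exact cod_mono (zpowers_le.2 (pow_mem (mem_zpowers t) l))
  exact le_antisymm (key e.symm) (key e)

/-- the types of the elements of order `q` -/
theorem ty_mem {q : ℕ} {L : List ℕ} (h : ∀ i < D.n, D.ord i = q → i ∈ L) (ht : orderOf t = q) : T.ty t ∈ L :=
  h _ (T.lt t) ((T.ord t).symm.trans ht)

/-- a subgroup whose non-trivial elements have the same type -/
theorem pure_dvd {w : List ℤ} (hw : IrrRow T w) (h1 : T.ty 1 = 0) {E : Subgroup S} {i : ℕ}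
    (h : ∀ a ∈ E, a ≠ 1 → T.ty a = i) : (Nat.card E : ℤ) ∣ nth w 0 - nth w i := by
  classical
  obtain ⟨χ, h2, h3⟩ := hw
  have := Fintype.ofFinite E
  have h4 := H853.ThC.isIntegral_avg_char (Characters.Core.isIrr_isCharacter h2) E 1 fun a _ => Commute.one_right a
  rw [← Finset.add_sum_erase _ _ (Finset.mem_univ 1), Finset.sum_congr rfl (g := fun _ => (nth w i : ℂ)) fun (g : E) hg => by
    rw [mul_one, h3, h g g.2 fun e => Finset.ne_of_mem_erase hg (Subtype.ext e)], Finset.sum_const,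
    Finset.card_erase_of_mem (Finset.mem_univ _), Finset.card_univ, ← Nat.card_eq_fintype_card, OneMemClass.coe_one,
    mul_one, h3, h1, nsmul_eq_mul, Nat.cast_pred Nat.card_pos] at h4
  obtain ⟨l, hl⟩ := Characters.GaloisBasic.exists_int_of_isIntegral h4
    ⟨(Nat.card E : ℚ)⁻¹ * (nth w 0 + (Nat.card E - 1) * nth w i), by push_cast; rfl⟩
  rw [inv_mul_eq_iff_eq_mul₀ (Nat.cast_ne_zero.2 Nat.card_pos.ne')] at hl
  refine ⟨l - nth w i, ?_⟩
  have h5 : ((nth w 0 - nth w i : ℤ) : ℂ) = (Nat.card E * (l - nth w i) : ℤ) := by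
    push_cast
    linear_combination hl
  exact_mod_cast h5

end Cfsg.Agent.TwoF.SpD
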